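import Mathlib
import Groth.Agent.S7591

/-!
# Local Noetherianity and base change along a finitely generated field extension
-/

open CategoryTheory CategoryTheory.Limits AlgebraicGeometry TensorProduct

namespace Groth.Agent.Lib.Helper6.BaseChange

universe u

/-- `R ⊗[k] K` is Noetherian iff `R` is, for `K/k` essentially of finite type. -/
theorem isNoetherianRing_tensor_iff (k K R : Type u) [Field k] [Field K] [Algebra k K]
    [Algebra.EssFiniteType k K] [CommRing R] [Algebra k R] :
    IsNoetherianRing (R ⊗[k] K) ↔ IsNoetherianRing R := by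
  constructor
  · intro h
    have h1 : IsNoetherian (R ⊗[k] K) ((R ⊗[k] K) ⊗[R] R) :=
      isNoetherian_of_linearEquiv
        (TensorProduct.AlgebraTensorModule.rid R (R ⊗[k] K) (R ⊗[k] K)).symm
    exact Submodule.IsNoetherian.of_isNoetherian_tensorProduct_of_faithfullyFlat (A := R ⊗[k] K) h1
  · intro h
    exact Algebra.EssFiniteType.isNoetherianRing R (R ⊗[k] K)

/-- Affine case. -/
theorem isLocallyNoetherian_bc_spec_iff {k K : Type u} [Field k] [Field K] [Algebra k K]
    [Algebra.EssFiniteType k K] {R : CommRingCat.{u}} (h : Spec R ⟶ Spec (CommRingCat.of k)) :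
    IsLocallyNoetherian (Groth.Agent.S2502.bc h K) ↔ IsNoetherianRing R := by
  obtain ⟨φ, rfl⟩ : ∃ φ, Spec.map φ = h := ⟨Spec.preimage h, Spec.map_preimage h⟩
  let _ : Algebra k R := φ.hom.toAlgebra
  have e : Groth.Agent.S2502.bc (Spec.map φ) K ≅ Spec (CommRingCat.of (↑R ⊗[k] K)) :=
    pullbackSpecIso k R K
  rw [← isNoetherianRing_tensor_iff k K R]
  constructor
  · intro h1
    have h2 : IsLocallyNoetherian (Spec (CommRingCat.of (↑R ⊗[k] K))) :=
      isLocallyNoetherian_of_isOpenImmersion e.inv
    exact isLocallyNoetherian_Spec.mp h2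
  · intro h1
    have h2 : IsLocallyNoetherian (Spec (CommRingCat.of (↑R ⊗[k] K))) :=
      isLocallyNoetherian_Spec.mpr h1
    exact isLocallyNoetherian_of_isOpenImmersion e.hom

/-- Local Noetherianity is invariant under base change along a finitely generated field
extension. -/
theorem isLocallyNoetherian_bc_iff {k K : Type u} [Field k] [Field K] [Algebra k K]
    [Algebra.EssFiniteType k K] {X : Scheme.{u}} (f : X ⟶ Spec (CommRingCat.of k)) :
    IsLocallyNoetherian X ↔ IsLocallyNoetherian (Groth.Agent.S2502.bc f K) := by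
  rw [isLocallyNoetherian_iff_openCover X.affineCover,
    isLocallyNoetherian_iff_openCover (X.affineCover.pullback₁ (Groth.Agent.S2502.bcπ f K))]
  refine forall_congr' fun i => ?_
  have hpb := Groth.Agent.S7591.isPullback_bcMap (X.affineCover.f i) f K
  have h1 : IsLocallyNoetherian (X.affineCover.X i) ↔
      IsLocallyNoetherian (Groth.Agent.S2502.bc (X.affineCover.f i ≫ f) K) := by
    exact (isLocallyNoetherian_Spec (R := X.affineOpenCover.X i)).trans
      (isLocallyNoetherian_bc_spec_iff (K := K) (R := X.affineOpenCover.X i)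
        (X.affineCover.f i ≫ f)).symm
  rw [h1]
  constructor
  · intro h2
    haveI := h2
    exact isLocallyNoetherian_of_isOpenImmersion hpb.isoPullback.inv
  · intro h2
    haveI : IsLocallyNoetherian (pullback (Groth.Agent.S2502.bcπ f K) (X.affineCover.f i)) := h2
    exact isLocallyNoetherian_of_isOpenImmersion hpb.isoPullback.hom

end Groth.Agent.Lib.Helper6.BaseChange
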